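import Cfsg.Agent.TAB.Eng.Defs

/-!
# What is left over (helper72, TAB)

If the boxes of all types outside a set `S` hold, there is a set `R` of elements such that the elements outside `R` have
a type outside `S`, and the sums over `R` of the functions of the type are known.
-/

set_option autoImplicit false

namespace Cfsg.Agent.TAB.M4

open Cfsg Cfsg.Agent.TAB.Eng

universe u v

variable {G : Type u} [Group G] {α : Type v} {K : Key G α} {D : Dat} {val : ℕ → α}

/-- **the rest** -/
theorem exists_rest [Fintype G] [DecidableEq α] (h2 : D.okSep val = true) (S : ℕ → Bool)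
    (hb : ∀ i < D.n, S i = false → Box K D val i) :
    ∃ R : Finset G, (∀ g, g ∉ R → ∃ i < D.n, S i = false ∧ Ty K D val i g) ∧
      ∀ (f : G → ℤ) (a : ℕ → ℤ), (∀ i < D.n, ∀ g, Ty K D val i g → f g = a i) →
        ∑ g ∈ R, f g = ∑ g, f g - ((List.range D.n).map fun i => if S i then 0 else (D.cnt i : ℤ) * a i).sum := by
  classical
  have h4 : ∀ i, ∃ A : Finset G, (i < D.n → S i = false → A.card = D.cnt i) ∧ (S i = true → A = ∅) ∧
      ∀ g ∈ A, Ty K D val i g := by
    intro i
    by_cases h : i < D.n ∧ S i = false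
    · have h5 := hb i h.1 h.2
      rw [Box, Nat.card_eq_fintype_card, Fintype.card_subtype] at h5
      obtain ⟨A, hA, hc⟩ := Finset.exists_subset_card_eq h5
      exact ⟨A, fun _ _ => hc, fun h6 => by rw [h.2] at h6; exact absurd h6 (by decide),
        fun g hg => (Finset.mem_filter.1 (hA hg)).2⟩
    · exact ⟨∅, fun h5 h6 => absurd ⟨h5, h6⟩ h, fun _ => rfl, fun g hg => absurd hg (Finset.notMem_empty g)⟩
  choose A hA1 hA2 hA3 using h4
  refine ⟨((Finset.range D.n).biUnion A)ᶜ, fun g hg => ?_, fun f a hf => ?_⟩
  · rw [Finset.mem_compl, not_not, Finset.mem_biUnion] at hg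
    obtain ⟨i, hi, hg⟩ := hg
    refine ⟨i, Finset.mem_range.1 hi, ?_, hA3 i g hg⟩
    cases h : S i
    · rfl
    · rw [hA2 i h] at hg
      exact absurd hg (Finset.notMem_empty g)
  · have h5 : ∑ g ∈ (Finset.range D.n).biUnion A, f g = ∑ i ∈ Finset.range D.n, ∑ g ∈ A i, f g := by
      apply Finset.sum_biUnion
      intro i hi j hj hij
      rw [Function.onFun, Finset.disjoint_left]
      intro g hg hg'
      exact hij (Ty.unique h2 (Finset.mem_range.1 hi) (Finset.mem_range.1 hj) (hA3 i g hg) (hA3 j g hg'))
    have h6 : ∀ (F : ℕ → ℤ) (n : ℕ), ((List.range n).map F).sum = ∑ i ∈ Finset.range n, F i := by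
      intro F n
      induction n with
      | zero => rfl
      | succ n ih => rw [List.range_succ, List.map_append, List.sum_append, ih, Finset.sum_range_succ]; simp
    rw [h6, ← Finset.sum_add_sum_compl ((Finset.range D.n).biUnion A) f, h5]
    have h7 : ∑ i ∈ Finset.range D.n, ∑ g ∈ A i, f g =
        ∑ i ∈ Finset.range D.n, if S i then 0 else (D.cnt i : ℤ) * a i := by
      refine Finset.sum_congr rfl fun i hi => ?_
      cases h : S i
      · rw [Finset.sum_congr rfl fun g hg => hf i (Finset.mem_range.1 hi) g (hA3 i g hg), Finset.sum_const,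
          hA1 i (Finset.mem_range.1 hi) h]
        simp
      · rw [hA2 i h]
        simp
    rw [h7]
    ring

/-- a function that is nonnegative with the sum zero vanishes -/
theorem zero_of_sum {X : Type*} {R : Finset X} {f : X → ℤ} (h : ∀ g ∈ R, 0 ≤ f g) (h0 : ∑ g ∈ R, f g = 0) :
    ∀ g ∈ R, f g = 0 := (Finset.sum_eq_zero_iff_of_nonneg h).1 h0

/-- the number of the elements with the value `b` of a function with two values -/
theorem card_of_two {X : Type*} [DecidableEq X] {R : Finset X} {f : X → ℤ} {a b : ℤ}
    (h : ∀ g ∈ R, f g = a ∨ f g = b) (hab : a ≠ b) :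
    ((R.filter fun g => f g = b).card : ℤ) * (b - a) = ∑ g ∈ R, (f g - a) := by
  rw [Finset.card_filter, Nat.cast_sum, Finset.sum_mul]
  refine Finset.sum_congr rfl fun g hg => ?_
  rcases h g hg with h1 | h1
  · rw [h1, if_neg hab]
    simp
  · rw [h1, if_pos rfl]
    simp

/-- the moments of an irreducible character `χ` and of a sum `1 + χ + A + B` -/
theorem moments [Fintype G] {χ A B : G → ℂ} (hχ : IsIrrCharacter G χ) (hA : IsIrrCharacter G A)
    (hB : IsIrrCharacter G B) (h1 : χ ≠ 1) (h2 : A ≠ 1) (h3 : B ≠ 1) (h4 : χ ≠ A) (h5 : χ ≠ B) (h6 : A ≠ B)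
    {x s : G → ℤ} (hx : ∀ g, χ g = x g) (hs : ∀ g, 1 + χ g + A g + B g = s g) :
    ∑ g, x g = 0 ∧ ∑ g, x g * x g = Nat.card G ∧ ∑ g, s g = Nat.card G ∧ ∑ g, x g * s g = Nat.card G ∧
      ∑ g, s g * s g = 4 * Nat.card G := by
  have hN : (Nat.card G : ℂ) ≠ 0 := Characters.Core.card_ne_zero_complex
  have key : ∀ (φ ψ : G → ℂ) (a b : G → ℤ) (c : ℤ), (∀ g, φ g = a g) → (∀ g, ψ g = b g) → classInner φ ψ = c →
      ∑ g, a g * b g = c * Nat.card G := by
    intro φ ψ a b c ha hb h
    rw [Characters.Core.classInner_def] at h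
    simp only [ha, hb, map_intCast] at h
    have h' : ∑ g, (a g : ℂ) * (b g : ℂ) = c * Nat.card G := by
      rw [← h]
      field_simp
    exact_mod_cast h'
  have ho := Characters.Core.isIrr_one (G := G)
  have hs' : ∀ g, (1 + χ + A + B) g = s g := hs
  have h1' : ∀ g : G, (1 : G → ℂ) g = ((1 : ℤ) : ℂ) := fun g => by simp
  have e1 := key χ 1 x (fun _ => 1) 0 hx h1' (by rw [Characters.Core.classInner_irr_ne hχ ho h1]; simp)
  have e2 := key χ χ x x 1 hx hx (by rw [Characters.Core.classInner_irr_self hχ]; simp)
  have e3 := key _ 1 s (fun _ => 1) 1 hs' h1' (by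
    rw [Characters.Core.classInner_add_left, Characters.Core.classInner_add_left,
      Characters.Core.classInner_add_left, Characters.Core.classInner_irr_self ho,
      Characters.Core.classInner_irr_ne hχ ho h1, Characters.Core.classInner_irr_ne hA ho h2,
      Characters.Core.classInner_irr_ne hB ho h3]
    simp)
  have e4 := key χ _ x s 1 hx hs' (by
    rw [Characters.Core.classInner_add_right, Characters.Core.classInner_add_right,
      Characters.Core.classInner_add_right, Characters.Core.classInner_irr_self hχ,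
      Characters.Core.classInner_irr_ne hχ ho h1, Characters.Core.classInner_irr_ne hχ hA h4,
      Characters.Core.classInner_irr_ne hχ hB h5]
    simp)
  have e5 := key _ _ s s 4 hs' hs' (by
    simp only [Characters.Core.classInner_add_right, Characters.Core.classInner_add_left]
    rw [Characters.Core.classInner_irr_self ho, Characters.Core.classInner_irr_self hχ,
      Characters.Core.classInner_irr_self hA, Characters.Core.classInner_irr_self hB,
      Characters.Core.classInner_irr_ne hχ ho h1, Characters.Core.classInner_irr_ne hA ho h2,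
      Characters.Core.classInner_irr_ne hB ho h3, Characters.Core.classInner_irr_ne ho hχ h1.symm,
      Characters.Core.classInner_irr_ne ho hA h2.symm, Characters.Core.classInner_irr_ne ho hB h3.symm,
      Characters.Core.classInner_irr_ne hχ hA h4, Characters.Core.classInner_irr_ne hχ hB h5,
      Characters.Core.classInner_irr_ne hA hχ h4.symm, Characters.Core.classInner_irr_ne hB hχ h5.symm,
      Characters.Core.classInner_irr_ne hA hB h6, Characters.Core.classInner_irr_ne hB hA h6.symm]
    norm_num)
  simp only [mul_one, zero_mul, one_mul] at e1 e2 e3 e4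
  exact ⟨e1, e2, e3, e4, e5⟩

end Cfsg.Agent.TAB.M4
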